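import Groth.Agent.Lib.Comod.Basic
import Groth.Agent.Lib.HopfTransfer.FF
import Groth.Agent.H66.ExactSeq
import Mathlib.RingTheory.HopfAlgebra.Convolution
import Mathlib.RingTheory.HopfAlgebra.MonoidAlgebra
import Mathlib

/-!
An extension of a connected group by a diagonalisable group is central.
-/

set_option autoImplicit false
set_option linter.unusedSectionVars false
universe u

namespace Groth.Agent.H66.MultExt

open TensorProduct WithConv

noncomputable section

section Conv

variable {k : Type u} [Field k]

/-- Points with values in an algebra. -/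
abbrev Pt (k : Type u) [Field k] (X R : Type u) [CommRing X] [HopfAlgebra k X] [CommRing R] [Algebra k R] :=
  WithConv (X →ₐ[k] R)

open Bialgebra Coalgebra in
/-- The convolution group of points with values in any commutative algebra. -/
scoped instance (priority := 10000) ptGroup {X R : Type u} [CommRing X] [HopfAlgebra k X] [CommRing R]
    [Algebra k R] : Group (Pt k X R) where
  inv f := toConv <| f.ofConv.comp (HopfAlgebra.antipodeAlgHom k X)
  inv_mul_cancel f := by
    have H : (Algebra.TensorProduct.lmul' k).comp (Algebra.TensorProduct.map f.ofConv f.ofConv) =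
        f.ofConv.comp (Algebra.TensorProduct.lmul' k) := by ext <;> simp
    trans toConv <| ((Algebra.TensorProduct.lmul' k).comp (Algebra.TensorProduct.map f.ofConv f.ofConv)).comp
      ((Algebra.TensorProduct.map (HopfAlgebra.antipodeAlgHom k X) (.id _ _)).comp (comulAlgHom k X))
    · rw [AlgHom.comp_assoc, ← AlgHom.comp_assoc (Algebra.TensorProduct.map f.ofConv f.ofConv),
        ← Algebra.TensorProduct.map_comp]; rfl
    rw [H, AlgHom.comp_assoc, WithConv.ext_iff, ← AlgHom.toLinearMap_injective.eq_iff]
    change f.ofConv.toLinearMap.comp (toConv (HopfAlgebra.antipode k (A := X)) * toConv LinearMap.id).ofConv =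
      ofConv (1 : WithConv <| X →ₗ[k] R)
    rw [LinearMap.antipode_mul_id]
    ext
    simp

/-- Post-composition as a monoid homomorphism of the convolution monoids. -/
def post {X R R' : Type u} [CommRing X] [HopfAlgebra k X] [CommRing R] [Algebra k R] [CommRing R'] [Algebra k R']
    (h : R →ₐ[k] R') : Pt k X R →* Pt k X R' where
  toFun f := toConv (h.comp f.ofConv)
  map_one' := by
    apply WithConv.ofConv_injective
    refine AlgHom.ext fun x => ?_
    show h (algebraMap k R _) = algebraMap k R' _
    exact AlgHom.commutes h _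
  map_mul' f g := by
    apply WithConv.ofConv_injective
    exact AlgHom.comp_convMul_distrib h f g

theorem post_apply {X R R' : Type u} [CommRing X] [HopfAlgebra k X] [CommRing R] [Algebra k R] [CommRing R']
    [Algebra k R'] (h : R →ₐ[k] R') (f : WithConv (X →ₐ[k] R)) (x : X) :
    (post h f).ofConv x = h (f.ofConv x) := rfl

/-- Pre-composition as a monoid homomorphism of the convolution monoids. -/
def pre {X Y R : Type u} [CommRing X] [HopfAlgebra k X] [CommRing Y] [HopfAlgebra k Y] [CommRing R] [Algebra k R]
    (q : X →ₐc[k] Y) : Pt k Y R →* Pt k X R where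
  toFun f := toConv (f.ofConv.comp (q : X →ₐ[k] Y))
  map_one' := by
    apply WithConv.ofConv_injective
    refine AlgHom.ext fun x => ?_
    show algebraMap k R (CoalgebraStruct.counit (R := k) (q x)) = algebraMap k R _
    rw [CoalgHomClass.counit_comp_apply]; rfl
  map_mul' f g := by
    apply WithConv.ofConv_injective
    exact AlgHom.convMul_comp_bialgHom_distrib f g q

theorem pre_apply {X Y R : Type u} [CommRing X] [HopfAlgebra k X] [CommRing Y] [HopfAlgebra k Y] [CommRing R]
    [Algebra k R] (q : X →ₐc[k] Y) (f : WithConv (Y →ₐ[k] R)) (x : X) :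
    (pre q f).ofConv x = f.ofConv (q x) := rfl

theorem post_inv {X R R' : Type u} [CommRing X] [HopfAlgebra k X] [CommRing R] [Algebra k R] [CommRing R']
    [Algebra k R'] (h : R →ₐ[k] R') (f : Pt k X R) : post h f⁻¹ = (post h f)⁻¹ := rfl

theorem pre_inv {X Y R : Type u} [CommRing X] [HopfAlgebra k X] [CommRing Y] [HopfAlgebra k Y] [CommRing R]
    [Algebra k R] (q : X →ₐc[k] Y) (f : Pt k Y R) : pre q f⁻¹ = (pre q f)⁻¹ :=
  eq_inv_of_mul_eq_one_left ((map_mul (pre q) f⁻¹ f).symm.trans ((congrArg (pre q) (inv_mul_cancel f)).trans (map_one (pre q))))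

theorem commute_of_cocomm {X R : Type u} [CommRing X] [HopfAlgebra k X] [Coalgebra.IsCocomm k X] [CommRing R]
    [Algebra k R] (f g : Pt k X R) : Commute f g := by
  have h := mul_comm (G := WithConv (X →ₐ[k] R)) f g
  exact h

theorem mul_apply_groupLike {X R : Type u} [CommRing X] [HopfAlgebra k X] [CommRing R] [Algebra k R]
    (f g : WithConv (X →ₐ[k] R)) {x : X} (hx : IsGroupLikeElem k x) :
    (f * g).ofConv x = f.ofConv x * g.ofConv x := by
  show (f * g) x = _
  rw [AlgHom.convMul_apply, hx.comul_eq_tmul_self, Algebra.TensorProduct.lift_tmul]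

theorem comul_eq_mul (X : Type u) [CommRing X] [HopfAlgebra k X] :
    toConv (Bialgebra.comulAlgHom k X) =
      toConv (Algebra.TensorProduct.includeLeft (R := k) (S := k) (A := X) (B := X)) *
        toConv (Algebra.TensorProduct.includeRight (R := k) (A := X) (B := X)) := by
  apply WithConv.ofConv_injective
  refine AlgHom.ext fun x => ?_
  show CoalgebraStruct.comul (R := k) x = _
  refine Eq.trans ?_ (AlgHom.convMul_apply _ _ x).symm
  induction CoalgebraStruct.comul (R := k) x using TensorProduct.induction_on with
  | zero => simp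
  | add p q hp hq => rw [map_add, ← hp, ← hq]
  | tmul p q => simp

end Conv

variable {k : Type u} [Field k] {A C : Type u} [CommRing A] [HopfAlgebra k A] [CommRing C] [HopfAlgebra k C]
variable {N : Type u} [CommGroup N]

local notation "kN" => MonoidAlgebra k N

variable (ψ : C →ₐc[k] A) (q : A →ₐc[k] MonoidAlgebra k N)

/-- The point of the subgroup. -/
def hpt : Pt k A (kN ⊗[k] A) :=
  pre q (toConv (Algebra.TensorProduct.includeLeft (R := k) (S := k) (A := MonoidAlgebra k N) (B := A)))

/-- The universal point. -/
def gpt : Pt k A (kN ⊗[k] A) :=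
  toConv (Algebra.TensorProduct.includeRight (R := k) (A := MonoidAlgebra k N) (B := A))

/-- `(id ⊗ q) ∘ Δ`. -/
def coactN : A →ₐ[k] A ⊗[k] kN :=
  (Algebra.TensorProduct.map (AlgHom.id k A) (q : A →ₐ[k] MonoidAlgebra k N)).comp (Bialgebra.comulAlgHom k A)

theorem coactN_apply (a : A) :
    coactN q a = (q : A →ₐ[k] kN).toLinearMap.lTensor A (CoalgebraStruct.comul (R := k) a) := by
  show Algebra.TensorProduct.map (AlgHom.id k A) (q : A →ₐ[k] MonoidAlgebra k N) (CoalgebraStruct.comul (R := k) a) = _
  induction CoalgebraStruct.comul (R := k) a using TensorProduct.induction_on with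
  | zero => simp
  | add x y hx hy => simp only [map_add, hx, hy]
  | tmul x y => simp

theorem toConv_coactN : toConv (coactN q) =
    toConv (Algebra.TensorProduct.includeLeft (R := k) (S := k) (A := A) (B := MonoidAlgebra k N)) *
      pre q (toConv (Algebra.TensorProduct.includeRight (R := k) (A := A) (B := MonoidAlgebra k N))) := by
  have h := congrArg (post (Algebra.TensorProduct.map (AlgHom.id k A) (q : A →ₐ[k] MonoidAlgebra k N))) (comul_eq_mul A)
  rw [map_mul] at h
  refine Eq.trans h ?_
  congr 1
  · apply WithConv.ofConv_injective; ext a; simp [post]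

section

variable (hψ : Function.Injective ψ) (hq : Function.Surjective q)
  (hqψ : ∀ c, q (ψ c) = algebraMap k _ (CoalgebraStruct.counit (R := k) c))
  (hker : RingHom.ker (q : A →ₐ[k] MonoidAlgebra k N) ≤
    Ideal.map (ψ : C →+* A) (RingHom.ker (Bialgebra.counitAlgHom k C)))

include hψ hker in
theorem mem_range_of_coinvariant [Algebra.FiniteType k A] {a : A} (ha : coactN q a = a ⊗ₜ[k] (1 : kN)) :
    ∃ c, ψ c = a := by
  let S : Subalgebra k A := (ψ : C →ₐ[k] A).range
  have hS := Lib.HopfTransfer.isHopfSubalgebra_range ψ
  haveI := H66.ExactSeq.faithfullyFlat_subalgebra S hS.1 hS.2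
  have hm : a ∈ S := by
    refine H66.ExactSeq.mem_of_coinvariant S hS.1 hS.2 (q : A →ₐ[k] kN) ?_ ((coactN_apply q a).symm.trans ha)
    refine hker.trans (Ideal.map_le_iff_le_comap.2 fun c hc => Ideal.mem_comap.2
      (Ideal.subset_span ⟨⟨c, rfl⟩, ?_⟩))
    exact (CoalgHomClass.counit_comp_apply ψ c).trans hc
  obtain ⟨c, hc⟩ := hm
  exact ⟨c, hc⟩

/-- Conjugation of the subgroup by the universal point. -/
def conjPt : Pt k A (kN ⊗[k] A) := (gpt (k := k) (A := A) (N := N))⁻¹ * hpt q * gpt

include hqψ hq hker in
theorem exists_factor : ∃ T : kN →ₐ[k] kN ⊗[k] A, conjPt q = pre q (toConv T) := by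
  have hk : RingHom.ker (q : A →ₐ[k] kN) ≤ RingHom.ker (conjPt q).ofConv := by
    refine hker.trans (Ideal.map_le_iff_le_comap.2 fun c hc => ?_)
    have h1 : pre ψ (hpt q) = 1 := by
      apply WithConv.ofConv_injective
      refine AlgHom.ext fun c => ?_
      show q (ψ c) ⊗ₜ[k] (1 : A) = algebraMap k (kN ⊗[k] A) (CoalgebraStruct.counit (R := k) c)
      rw [hqψ, Algebra.TensorProduct.algebraMap_apply]
    have h2 : pre ψ (conjPt q) = 1 := by
      rw [conjPt, map_mul, map_mul, h1, pre_inv]
      group
    show (conjPt q).ofConv (ψ c) = 0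
    rw [← pre_apply ψ (conjPt q), h2]
    show algebraMap k (kN ⊗[k] A) (CoalgebraStruct.counit (R := k) c) = 0
    rw [show CoalgebraStruct.counit (R := k) c = 0 from hc, map_zero]
  refine ⟨(q : A →ₐ[k] kN).liftOfSurjective hq (conjPt q).ofConv hk, ?_⟩
  apply WithConv.ofConv_injective
  refine AlgHom.ext fun a => ?_
  exact (AlgHom.liftOfSurjective_apply (q : A →ₐ[k] kN) hq (conjPt q).ofConv hk a).symm

include hψ hq hqψ hker in
theorem central [Algebra.FiniteType k A] [IsDomain C] : Commute (hpt q) (gpt (k := k) (A := A) (N := N)) := by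
  classical
  obtain ⟨T, hT⟩ := exists_factor ψ q hq hqψ hker
  let bN := MonoidAlgebra.basis N k
  have hgl : ∀ n : N, IsGroupLikeElem k (MonoidAlgebra.single n 1 : kN) :=
    fun n => MonoidAlgebra.isGroupLikeElem_single_one n
  have hpre : ∀ {R : Type u} [CommRing R] [Algebra k R] (f g : Pt k kN R),
      pre q f = pre q g → f = g := by
    intro R _ _ f g h
    apply WithConv.ofConv_injective
    refine AlgHom.ext fun x => ?_
    obtain ⟨a, rfl⟩ := hq x
    exact congrArg (fun F : WithConv (A →ₐ[k] R) => F.ofConv a) h
  -- coefficients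
  let co : N → kN ⊗[k] A →ₗ[k] A := fun m => (TensorProduct.lid k A).toLinearMap ∘ₗ (bN.coord m).rTensor A
  -- first identity: orthogonal idempotents
  let i1 : kN ⊗[k] A →ₐ[k] (kN ⊗[k] kN) ⊗[k] A :=
    Algebra.TensorProduct.map Algebra.TensorProduct.includeLeft (AlgHom.id k A)
  let i2 : kN ⊗[k] A →ₐ[k] (kN ⊗[k] kN) ⊗[k] A :=
    Algebra.TensorProduct.map Algebra.TensorProduct.includeRight (AlgHom.id k A)
  let d : kN ⊗[k] A →ₐ[k] (kN ⊗[k] kN) ⊗[k] A :=
    Algebra.TensorProduct.map (Bialgebra.comulAlgHom k kN) (AlgHom.id k A)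
  have hd : ∀ n : N, d (T (MonoidAlgebra.single n 1)) = i1 (T (MonoidAlgebra.single n 1)) * i2 (T (MonoidAlgebra.single n 1)) := by
    have hg1 : post d (gpt (k := k) (A := A) (N := N)) = post (R' := (kN ⊗[k] kN) ⊗[k] A) i1 (gpt (k := k) (A := A) (N := N)) := by
      apply WithConv.ofConv_injective; ext a; simp [post, gpt, d, i1, Algebra.TensorProduct.one_def]
    have hg2 : post d (gpt (k := k) (A := A) (N := N)) = post (R' := (kN ⊗[k] kN) ⊗[k] A) i2 (gpt (k := k) (A := A) (N := N)) := by
      apply WithConv.ofConv_injective; ext a; simp [post, gpt, d, i2, Algebra.TensorProduct.one_def]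
    have hh : post d (hpt q) = post (R' := (kN ⊗[k] kN) ⊗[k] A) i1 (hpt q) * post (R' := (kN ⊗[k] kN) ⊗[k] A) i2 (hpt q) := by
      have h := congrArg (fun F => pre q (post (R' := (kN ⊗[k] kN) ⊗[k] A) (Algebra.TensorProduct.includeLeft (R := k) (S := k)
        (A := kN ⊗[k] kN) (B := A)) F)) (comul_eq_mul (k := k) kN)
      rw [map_mul, map_mul] at h
      refine Eq.trans ?_ (h.trans ?_)
      · rfl
      · rfl
    have hc : post d (conjPt q) = post (R' := (kN ⊗[k] kN) ⊗[k] A) i1 (conjPt q) * post (R' := (kN ⊗[k] kN) ⊗[k] A) i2 (conjPt q) := by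
      simp only [conjPt, map_mul, post_inv]
      rw [hh, ← hg1, ← hg2]
      group
    intro n
    have h2 : post d (toConv T) = post (R' := (kN ⊗[k] kN) ⊗[k] A) i1 (toConv T) * post (R' := (kN ⊗[k] kN) ⊗[k] A) i2 (toConv T) := by
      refine hpre _ _ ?_
      refine Eq.trans ?_ (hc.trans ?_)
      · rw [hT]; rfl
      · rw [map_mul, hT]; rfl
    have := congrArg (fun F : WithConv (kN →ₐ[k] _) => F.ofConv (MonoidAlgebra.single n 1)) h2
    exact this.trans (mul_apply_groupLike _ _ (hgl n))
  -- second identity: coinvariance
  let D : kN ⊗[k] A →ₐ[k] kN ⊗[k] (A ⊗[k] kN) := Algebra.TensorProduct.map (AlgHom.id k kN) (coactN q)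
  let iA : kN ⊗[k] A →ₐ[k] kN ⊗[k] (A ⊗[k] kN) :=
    Algebra.TensorProduct.map (AlgHom.id k kN) Algebra.TensorProduct.includeLeft
  have hD : D.comp T = iA.comp T := by
    let h3 : Pt k kN (kN ⊗[k] (A ⊗[k] kN)) :=
      toConv (Algebra.TensorProduct.includeRight.comp Algebra.TensorProduct.includeRight)
    have hDg : post D (gpt (k := k) (A := A) (N := N)) = post (R' := kN ⊗[k] (A ⊗[k] kN)) iA (gpt (k := k) (A := A) (N := N)) * pre q h3 := by
      have h := congrArg (post (R' := kN ⊗[k] (A ⊗[k] kN)) (Algebra.TensorProduct.includeRight (R := k) (A := kN) (B := A ⊗[k] kN)))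
        (toConv_coactN q)
      rw [map_mul] at h
      refine Eq.trans ?_ (h.trans ?_)
      · apply WithConv.ofConv_injective; ext a; simp [post, gpt, D]
      · congr 1
        all_goals
          apply WithConv.ofConv_injective
          ext a
          simp [post, pre, gpt, iA, h3]
          try exact congrArg (q a ⊗ₜ[k] ·) Algebra.TensorProduct.one_def
    have hDh : post D (hpt q) = post (R' := kN ⊗[k] (A ⊗[k] kN)) iA (hpt q) := by
      apply WithConv.ofConv_injective; ext a; simp [post, pre, hpt, D, iA]; exact congrArg (q a ⊗ₜ[k] ·) Algebra.TensorProduct.one_def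
    have hcomm : Commute (pre q h3) (post (R' := kN ⊗[k] (A ⊗[k] kN)) iA (conjPt q)) := by
      rw [hT]
      exact (commute_of_cocomm h3 (post (R' := kN ⊗[k] (A ⊗[k] kN)) iA (toConv T))).map (pre q)
    have hc : post D (conjPt q) = post (R' := kN ⊗[k] (A ⊗[k] kN)) iA (conjPt q) := by
      have h1 : post D (conjPt q) = (pre q h3)⁻¹ * post (R' := kN ⊗[k] (A ⊗[k] kN)) iA (conjPt q) * pre q h3 := by
        simp only [conjPt, map_mul, post_inv, hDg, hDh]
        group
      rw [h1, mul_assoc, ← hcomm.eq, ← mul_assoc, inv_mul_cancel, one_mul]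
    refine congrArg WithConv.ofConv (hpre (post (R' := kN ⊗[k] (A ⊗[k] kN)) D (toConv T)) (post (R' := kN ⊗[k] (A ⊗[k] kN)) iA (toConv T))
      (Eq.trans ?_ (hc.trans ?_)))
    · rw [hT]; rfl
    · rw [hT]; rfl
  -- counit
  let ev : kN ⊗[k] A →ₐ[k] kN :=
    (Algebra.TensorProduct.rid k k kN).toAlgHom.comp (Algebra.TensorProduct.map (AlgHom.id k kN) (Bialgebra.counitAlgHom k A))
  have hev : ev.comp T = AlgHom.id k kN := by
    refine congrArg WithConv.ofConv (hpre (post ev (toConv T)) (toConv (AlgHom.id k kN)) ?_)
    have hg : post ev (gpt (k := k) (A := A) (N := N)) = 1 := by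
      apply WithConv.ofConv_injective
      refine AlgHom.ext fun a => ?_
      show ev ((1 : kN) ⊗ₜ[k] a) = algebraMap k kN _
      simp [ev, Algebra.algebraMap_eq_smul_one]
    have hh : post ev (hpt q) = pre q (toConv (AlgHom.id k kN)) := by
      apply WithConv.ofConv_injective
      refine AlgHom.ext fun a => ?_
      show ev (q a ⊗ₜ[k] (1 : A)) = q a
      simp [ev]
    rw [← hh]
    have : post ev (conjPt q) = post ev (hpt q) := by
      rw [conjPt, map_mul, map_mul, post_inv, hg, inv_one, one_mul, mul_one]
    refine Eq.trans ?_ this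
    rw [hT]; rfl
  -- conclusion on group-like elements
  have hTn : ∀ n : N, T (MonoidAlgebra.single n 1) = (MonoidAlgebra.single n 1 : kN) ⊗ₜ[k] (1 : A) := by
    intro n
    set z := T (MonoidAlgebra.single n 1) with hz
    let e : N → A := fun m => co m z
    have hexp : z = ((TensorProduct.equivFinsuppOfBasisLeft bN z).sum fun m a => bN m ⊗ₜ[k] a) := by
      conv_lhs => rw [← (TensorProduct.equivFinsuppOfBasisLeft bN (N := A)).symm_apply_apply z]
      rw [TensorProduct.equivFinsuppOfBasisLeft_symm_apply]
    have hidem : ∀ m, e m * e m = e m := by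
      intro m
      let L : (kN ⊗[k] kN) ⊗[k] A →ₗ[k] A := (TensorProduct.lid k A).toLinearMap ∘ₗ
        ((LinearMap.mul' k k ∘ₗ TensorProduct.map (bN.coord m) (bN.coord m)).rTensor A)
      have h1 : ∀ w, L (d w) = co m w := by
        intro w
        induction w using TensorProduct.induction_on with
        | zero => simp
        | add p r hp hr => simp only [map_add, hp, hr]
        | tmul b a =>
          have : LinearMap.mul' k k (TensorProduct.map (bN.coord m) (bN.coord m) (CoalgebraStruct.comul (R := k) b)) =
              bN.coord m b := by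
            induction b using MonoidAlgebra.induction_linear with
            | zero => simp
            | add p r hp hr => simp only [map_add, hp, hr]
            | single g r =>
              rw [show (MonoidAlgebra.single g r : kN) = r • MonoidAlgebra.single g 1 by
                rw [MonoidAlgebra.smul_single, smul_eq_mul, mul_one], map_smul, map_smul, map_smul, map_smul,
                (hgl g).comul_eq_tmul_self, TensorProduct.map_tmul, LinearMap.mul'_apply, ← MonoidAlgebra.basis_apply,
                Module.Basis.coord_apply, Module.Basis.repr_self, Finsupp.single_apply]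
              split <;> simp
          simp only [L, co, d, LinearMap.comp_apply, LinearEquiv.coe_coe, Algebra.TensorProduct.map_tmul,
            Bialgebra.comulAlgHom_apply, AlgHom.id_apply, LinearMap.rTensor_tmul, TensorProduct.lid_tmul]
          exact congrArg (· • a) this
      let Φ := (Algebra.TensorProduct.lmul' k (S := (kN ⊗[k] kN) ⊗[k] A)).comp (Algebra.TensorProduct.map i1 i2)
      have h2' : ∀ x : (kN ⊗[k] A) ⊗[k] (kN ⊗[k] A),
          L (Φ x) = LinearMap.mul' k A (TensorProduct.map (co m) (co m) x) := by
        refine LinearMap.congr_fun (f := L ∘ₗ Φ.toLinearMap)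
          (g := LinearMap.mul' k A ∘ₗ TensorProduct.map (co m) (co m)) ?_
        refine TensorProduct.ext' fun w w' => ?_
        induction w using TensorProduct.induction_on with
        | zero => simp only [TensorProduct.zero_tmul, map_zero]
        | add p r hp hr => simp only [TensorProduct.add_tmul, map_add, hp, hr]
        | tmul b a =>
          induction w' using TensorProduct.induction_on with
          | zero => simp only [TensorProduct.tmul_zero, map_zero]
          | add p r hp hr => simp only [TensorProduct.tmul_add, map_add, hp, hr]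
          | tmul b' a' =>
            simp [Φ, L, co, i1, i2, mul_smul, smul_mul_assoc, mul_smul_comm]
            exact smul_comm _ _ _
      have h2 : ∀ w w', L (i1 w * i2 w') = co m w * co m w' := fun w w' => by
        refine Eq.trans ?_ ((h2' (w ⊗ₜ[k] w')).trans ?_)
        · refine congrArg L ?_
          simp [Φ]
        · rw [TensorProduct.map_tmul, LinearMap.mul'_apply]
      show co m z * co m z = co m z
      rw [← h2, ← hd n, h1]
    have hcoinv : ∀ m, coactN q (e m) = e m ⊗ₜ[k] (1 : kN) := by
      intro m
      have h := congrArg (fun F : kN →ₐ[k] kN ⊗[k] (A ⊗[k] kN) =>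
        TensorProduct.lid k (A ⊗[k] kN) ((bN.coord m).rTensor (A ⊗[k] kN) (F (MonoidAlgebra.single n 1)))) hD
      simp only [AlgHom.comp_apply, ← hz] at h
      have h1 : ∀ w, TensorProduct.lid k (A ⊗[k] kN) ((bN.coord m).rTensor _ (D w)) = coactN q (co m w) := by
        intro w
        induction w using TensorProduct.induction_on with
        | zero => simp
        | add p r hp hr => simp only [map_add, hp, hr]
        | tmul b a => simp [D, co]
      have h2 : ∀ w, TensorProduct.lid k (A ⊗[k] kN) ((bN.coord m).rTensor _ (iA w)) = co m w ⊗ₜ[k] (1 : kN) := by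
        intro w
        induction w using TensorProduct.induction_on with
        | zero => simp
        | add p r hp hr => simp only [map_add, TensorProduct.add_tmul, hp, hr]
        | tmul b a => simp [iA, co, TensorProduct.smul_tmul']
      rwa [h1, h2] at h
    have hε : ∀ m, CoalgebraStruct.counit (R := k) (e m) = if n = m then 1 else 0 := by
      intro m
      have h := congrArg (fun F : kN →ₐ[k] kN => bN.coord m (F (MonoidAlgebra.single n 1))) hev
      simp only [AlgHom.comp_apply, ← hz, AlgHom.id_apply] at h
      have h1 : ∀ w, bN.coord m (ev w) = CoalgebraStruct.counit (R := k) (co m w) := by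
        intro w
        induction w using TensorProduct.induction_on with
        | zero => simp
        | add p r hp hr => simp only [map_add, hp, hr]
        | tmul b a => simp [ev, co, mul_comm]
      rw [h1, ← MonoidAlgebra.basis_apply, Module.Basis.coord_apply, Module.Basis.repr_self, Finsupp.single_apply] at h
      exact h
    have hval : ∀ m, e m = if n = m then 1 else 0 := by
      intro m
      obtain ⟨c, hc⟩ := mem_range_of_coinvariant ψ q hψ hker (hcoinv m)
      have hc2 : IsIdempotentElem c := hψ (by rw [map_mul, hc]; exact hidem m)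
      rcases IsIdempotentElem.iff_eq_zero_or_one.1 hc2 with h | h
      · rw [h, map_zero] at hc
        by_cases hnm : n = m
        · exfalso
          have := hε m
          rw [← hc, map_zero, if_pos hnm] at this
          exact zero_ne_one this
        · rw [if_neg hnm, hc]
      · rw [h, map_one] at hc
        by_cases hnm : n = m
        · rw [if_pos hnm, hc]
        · exfalso
          have := hε m
          rw [← hc, Bialgebra.counit_one, if_neg hnm] at this
          exact one_ne_zero this
    refine (TensorProduct.equivFinsuppOfBasisLeft bN (N := A)).injective (Finsupp.ext fun m => ?_)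
    rw [TensorProduct.equivFinsuppOfBasisLeft_apply_tmul_apply]
    refine Eq.trans ?_ ((hval m).trans ?_)
    · simp only [e, co]
      rw [TensorProduct.equivFinsuppOfBasisLeft_apply]
      rfl
    · rw [← MonoidAlgebra.basis_apply, Module.Basis.repr_self, Finsupp.single_apply]
      split <;> simp
  have hTid : T = Algebra.TensorProduct.includeLeft := by
    refine AlgHom.ext fun b => ?_
    induction b using MonoidAlgebra.induction_linear with
    | zero => simp
    | add p r hp hr => simp only [map_add, hp, hr]
    | single g r =>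
      rw [show (MonoidAlgebra.single g r : kN) = r • MonoidAlgebra.single g 1 by
        rw [MonoidAlgebra.smul_single, smul_eq_mul, mul_one], map_smul, map_smul, hTn]
      rfl
  have h : (gpt (k := k) (A := A) (N := N))⁻¹ * hpt q * gpt = hpt q := by
    rw [← conjPt, hT, hTid]; rfl
  show hpt q * gpt = gpt * hpt q
  conv_rhs => rw [← h]
  group

include hψ hq hqψ hker in
theorem commute_pre [Algebra.FiniteType k A] [IsDomain C] {R : Type u} [CommRing R] [Algebra k R]
    (f : WithConv (MonoidAlgebra k N →ₐ[k] R)) (g : WithConv (A →ₐ[k] R)) : Commute (pre q f) g := by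
  let u : kN ⊗[k] A →ₐ[k] R := Algebra.TensorProduct.lift f.ofConv g.ofConv fun x y => Commute.all _ _
  have h := (central ψ q hψ hq hqψ hker).map (post u)
  have h1 : post u (hpt q) = pre q f := by
    apply WithConv.ofConv_injective
    refine AlgHom.ext fun a => ?_
    show u (q a ⊗ₜ[k] (1 : A)) = f.ofConv (q a)
    simp [u]
  have h2 : post u (gpt (k := k) (A := A) (N := N)) = g := by
    apply WithConv.ofConv_injective
    refine AlgHom.ext fun a => ?_
    show u ((1 : kN) ⊗ₜ[k] a) = g.ofConv a
    simp [u]
  rwa [h1, h2] at h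

end

end

end Groth.Agent.H66.MultExt
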